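import Cfsg.Agent.Spor.ThK.D0

set_option autoImplicit false
set_option maxRecDepth 100000000
set_option Elab.async false

namespace Cfsg.Agent.Spor.ThK

theorem pr2 : Nat.beq (PA.prod ThV.A [ThV.gd, ThV.gc, ThV.gd] ThV.A.one) m1 = true := by decide +kernel

theorem pr5 : Nat.beq (PA.prod ThV.A [ThV.ge, ThV.gd, ThV.iu, ThV.gd, ThV.gc, ThV.gd, ThV.gu, ThV.gd, ThV.ge] ThV.A.one) m4 = true := by decide +kernel

theorem pr8 : Nat.beq (PA.prod ThV.A [ThV.ge, ThV.gd, ThV.iu, ThV.ge, ThV.gd, ThV.gc, ThV.gd, ThV.ge, ThV.gu, ThV.gd, ThV.ge] ThV.A.one) m7 = true := by decide +kernel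

theorem pr11 : Nat.beq (PA.prod ThV.A [ThV.gs, ThV.ge, ThV.gd, ThV.iu, ThV.gd, ThV.gc, ThV.gd, ThV.gu, ThV.gd, ThV.ge, ThV.is] ThV.A.one) m10 = true := by decide +kernel

theorem pr14 : Nat.beq (PA.prod ThV.A [ThV.is, ThV.is, ThV.ge, ThV.gd, ThV.iu, ThV.ge, ThV.gd, ThV.gc, ThV.gd, ThV.ge, ThV.gu] ThV.A.one) m13 = true := by decide +kernel

theorem pr17 : Nat.beq (PA.prod ThV.A [m13, ThV.gd, ThV.ge, ThV.gs, ThV.gs] ThV.A.one) m16 = true := by decide +kernel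

theorem pr20 : Nat.beq (PA.prod ThV.A [ThV.is, ThV.ge, ThV.gd, ThV.iu, ThV.ge, ThV.gd, ThV.gc, ThV.gd, ThV.ge, ThV.gu, ThV.gd] ThV.A.one) m19 = true := by decide +kernel

theorem pr23 : Nat.beq (PA.prod ThV.A [m19, ThV.ge, ThV.gs] ThV.A.one) m22 = true := by decide +kernel

theorem pr26 : Nat.beq (PA.prod ThV.A [ThV.gs, ThV.gs, ThV.ge, ThV.gd, ThV.iu, ThV.gd, ThV.gc, ThV.gd, ThV.gu, ThV.gd, ThV.ge] ThV.A.one) m25 = true := by decide +kernel

theorem pr29 : Nat.beq (PA.prod ThV.A [m25, ThV.is, ThV.is] ThV.A.one) m28 = true := by decide +kernel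

theorem TQok : PA.gensOk ThV.A TQ 9 = true := by decide +kernel

theorem q0 : PA.neq ThV.A (PA.evw ThV.A TQ [0] ThV.A.one) ThV.A.one = true := by decide +kernel

theorem q31 : PA.isW ThV.A TQ [2 * 0, 2 * 0] ThV.A.one = true := by decide +kernel

theorem q32 : PA.isW ThV.A TQ [2 * 1, 2 * 1] ThV.A.one = true := by decide +kernel

theorem q33 : PA.isW ThV.A TQ [2 * 2, 2 * 2] ThV.A.one = true := by decide +kernel

theorem q34 : PA.isW ThV.A TQ [2 * 3, 2 * 3] ThV.A.one = true := by decide +kernel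

theorem q35 : PA.isW ThV.A TQ [2 * 4, 2 * 4] ThV.A.one = true := by decide +kernel

theorem q36 : PA.isW ThV.A TQ [2 * 5, 2 * 5] ThV.A.one = true := by decide +kernel

theorem q37 : PA.isW ThV.A TQ [2 * 6, 2 * 6] ThV.A.one = true := by decide +kernel

theorem q38 : PA.isW ThV.A TQ [2 * 7, 2 * 7] ThV.A.one = true := by decide +kernel

theorem q39 : PA.isW ThV.A TQ [2 * 8, 2 * 8] ThV.A.one = true := by decide +kernel

theorem q40 : allN (fun j => Nat.beq (PA.evw ThV.A TQ [2 * 0, 2 * j] ThV.A.one) (PA.evw ThV.A TQ (lapp (Bool.rec [] [0] (xpr 0 j)) [2 * j, 2 * 0]) ThV.A.one)) 0 = true := by decide +kernel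

theorem q41 : allN (fun j => Nat.beq (PA.evw ThV.A TQ [2 * 1, 2 * j] ThV.A.one) (PA.evw ThV.A TQ (lapp (Bool.rec [] [0] (xpr 1 j)) [2 * j, 2 * 1]) ThV.A.one)) 1 = true := by decide +kernel

theorem q42 : allN (fun j => Nat.beq (PA.evw ThV.A TQ [2 * 2, 2 * j] ThV.A.one) (PA.evw ThV.A TQ (lapp (Bool.rec [] [0] (xpr 2 j)) [2 * j, 2 * 2]) ThV.A.one)) 2 = true := by decide +kernel

theorem q43 : allN (fun j => Nat.beq (PA.evw ThV.A TQ [2 * 3, 2 * j] ThV.A.one) (PA.evw ThV.A TQ (lapp (Bool.rec [] [0] (xpr 3 j)) [2 * j, 2 * 3]) ThV.A.one)) 3 = true := by decide +kernel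

theorem q44 : allN (fun j => Nat.beq (PA.evw ThV.A TQ [2 * 4, 2 * j] ThV.A.one) (PA.evw ThV.A TQ (lapp (Bool.rec [] [0] (xpr 4 j)) [2 * j, 2 * 4]) ThV.A.one)) 4 = true := by decide +kernel

end Cfsg.Agent.Spor.ThK
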