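import Cfsg.Agent.Spor.ThK.D0

set_option autoImplicit false
set_option maxRecDepth 100000000
set_option Elab.async false

namespace Cfsg.Agent.Spor.ThK

theorem q45 : allN (fun j => Nat.beq (PA.evw ThV.A TQ [2 * 5, 2 * j] ThV.A.one) (PA.evw ThV.A TQ (lapp (Bool.rec [] [0] (xpr 5 j)) [2 * j, 2 * 5]) ThV.A.one)) 5 = true := by decide +kernel

theorem q46 : allN (fun j => Nat.beq (PA.evw ThV.A TQ [2 * 6, 2 * j] ThV.A.one) (PA.evw ThV.A TQ (lapp (Bool.rec [] [0] (xpr 6 j)) [2 * j, 2 * 6]) ThV.A.one)) 6 = true := by decide +kernel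

theorem q47 : allN (fun j => Nat.beq (PA.evw ThV.A TQ [2 * 7, 2 * j] ThV.A.one) (PA.evw ThV.A TQ (lapp (Bool.rec [] [0] (xpr 7 j)) [2 * j, 2 * 7]) ThV.A.one)) 7 = true := by decide +kernel

theorem q48 : allN (fun j => Nat.beq (PA.evw ThV.A TQ [2 * 8, 2 * j] ThV.A.one) (PA.evw ThV.A TQ (lapp (Bool.rec [] [0] (xpr 8 j)) [2 * j, 2 * 8]) ThV.A.one)) 8 = true := by decide +kernel

theorem pr50 : Nat.beq (PA.prod ThV.A [ThV.gd, ThV.gu, ThV.gd, ThV.gu, ThV.gt] ThV.A.one) m49 = true := by decide +kernel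

theorem pr53 : Nat.beq (PA.prod ThV.A [ThV.is, ThV.gd, ThV.gu, ThV.gd, ThV.gu, ThV.it, ThV.gs] ThV.A.one) m52 = true := by decide +kernel

theorem pr56 : Nat.beq (PA.prod ThV.A [ThV.gt, ThV.gs, ThV.gu, ThV.gt, ThV.is, ThV.gd, ThV.gu, ThV.gd, ThV.ga] ThV.A.one) m55 = true := by decide +kernel

theorem pr59 : Nat.beq (PA.prod ThV.A [ThV.is, ThV.gu, ThV.is, ThV.gd, ThV.gu, ThV.gs, ThV.gs, ThV.gd, ThV.ga] ThV.A.one) m58 = true := by decide +kernel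

theorem pr62 : Nat.beq (PA.prod ThV.A [ThV.gu, ThV.gs, ThV.gd, ThV.gu, ThV.gd, ThV.gu, ThV.gs, ThV.it, ThV.gs, ThV.ga] ThV.A.one) m61 = true := by decide +kernel

theorem pr65 : Nat.beq (PA.prod ThV.A [ThV.gu, ThV.gd, ThV.ge, ThV.is, ThV.gu, ThV.gs, ThV.gs, ThV.gu, ThV.ge, ThV.gd, ThV.ga] ThV.A.one) m64 = true := by decide +kernel

theorem pr68 : Nat.beq (PA.prod ThV.A [ThV.ge, ThV.is, ThV.gd, ThV.gu, ThV.gt, ThV.is, ThV.gd, ThV.gu, ThV.gt, ThV.ge, ThV.ga] ThV.A.one) m67 = true := by decide +kernel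

theorem TFok : PA.gensOk ThV.A TF 7 = true := by decide +kernel

theorem n77 : Nat.beq (PA.mul ThV.A (nth ThV.A.one TF (Nat.mul 2 0)) (nth ThV.A.one TQ (Nat.mul 2 0))) (PA.mul ThV.A (PA.evw ThV.A TQ [0] ThV.A.one) (nth ThV.A.one TF (Nat.mul 2 0))) = true := by decide +kernel

theorem n78 : Nat.beq (PA.mul ThV.A (nth ThV.A.one TF (Nat.mul 2 0)) (nth ThV.A.one TQ (Nat.mul 2 1))) (PA.mul ThV.A (PA.evw ThV.A TQ [2, 6] ThV.A.one) (nth ThV.A.one TF (Nat.mul 2 0))) = true := by decide +kernel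

end Cfsg.Agent.Spor.ThK
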