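import Cfsg.Agent.Spor.ThK.D0

set_option autoImplicit false
set_option maxRecDepth 100000000
set_option Elab.async false

namespace Cfsg.Agent.Spor.ThK

theorem n79 : Nat.beq (PA.mul ThV.A (nth ThV.A.one TF (Nat.mul 2 0)) (nth ThV.A.one TQ (Nat.mul 2 2))) (PA.mul ThV.A (PA.evw ThV.A TQ [8] ThV.A.one) (nth ThV.A.one TF (Nat.mul 2 0))) = true := by decide +kernel

theorem n80 : Nat.beq (PA.mul ThV.A (nth ThV.A.one TF (Nat.mul 2 0)) (nth ThV.A.one TQ (Nat.mul 2 3))) (PA.mul ThV.A (PA.evw ThV.A TQ [0, 2] ThV.A.one) (nth ThV.A.one TF (Nat.mul 2 0))) = true := by decide +kernel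

theorem n81 : Nat.beq (PA.mul ThV.A (nth ThV.A.one TF (Nat.mul 2 0)) (nth ThV.A.one TQ (Nat.mul 2 4))) (PA.mul ThV.A (PA.evw ThV.A TQ [0, 4, 8] ThV.A.one) (nth ThV.A.one TF (Nat.mul 2 0))) = true := by decide +kernel

theorem n82 : Nat.beq (PA.mul ThV.A (nth ThV.A.one TF (Nat.mul 2 0)) (nth ThV.A.one TQ (Nat.mul 2 5))) (PA.mul ThV.A (PA.evw ThV.A TQ [0, 10, 16] ThV.A.one) (nth ThV.A.one TF (Nat.mul 2 0))) = true := by decide +kernel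

theorem n83 : Nat.beq (PA.mul ThV.A (nth ThV.A.one TF (Nat.mul 2 0)) (nth ThV.A.one TQ (Nat.mul 2 6))) (PA.mul ThV.A (PA.evw ThV.A TQ [14] ThV.A.one) (nth ThV.A.one TF (Nat.mul 2 0))) = true := by decide +kernel

theorem n84 : Nat.beq (PA.mul ThV.A (nth ThV.A.one TF (Nat.mul 2 0)) (nth ThV.A.one TQ (Nat.mul 2 7))) (PA.mul ThV.A (PA.evw ThV.A TQ [0, 12, 14] ThV.A.one) (nth ThV.A.one TF (Nat.mul 2 0))) = true := by decide +kernel

theorem n85 : Nat.beq (PA.mul ThV.A (nth ThV.A.one TF (Nat.mul 2 0)) (nth ThV.A.one TQ (Nat.mul 2 8))) (PA.mul ThV.A (PA.evw ThV.A TQ [10] ThV.A.one) (nth ThV.A.one TF (Nat.mul 2 0))) = true := by decide +kernel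

theorem n86 : Nat.beq (PA.mul ThV.A (nth ThV.A.one TF (Nat.mul 2 1)) (nth ThV.A.one TQ (Nat.mul 2 0))) (PA.mul ThV.A (PA.evw ThV.A TQ [0] ThV.A.one) (nth ThV.A.one TF (Nat.mul 2 1))) = true := by decide +kernel

theorem n87 : Nat.beq (PA.mul ThV.A (nth ThV.A.one TF (Nat.mul 2 1)) (nth ThV.A.one TQ (Nat.mul 2 1))) (PA.mul ThV.A (PA.evw ThV.A TQ [0, 2, 6, 16] ThV.A.one) (nth ThV.A.one TF (Nat.mul 2 1))) = true := by decide +kernel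

theorem n88 : Nat.beq (PA.mul ThV.A (nth ThV.A.one TF (Nat.mul 2 1)) (nth ThV.A.one TQ (Nat.mul 2 2))) (PA.mul ThV.A (PA.evw ThV.A TQ [14] ThV.A.one) (nth ThV.A.one TF (Nat.mul 2 1))) = true := by decide +kernel

theorem n89 : Nat.beq (PA.mul ThV.A (nth ThV.A.one TF (Nat.mul 2 1)) (nth ThV.A.one TQ (Nat.mul 2 3))) (PA.mul ThV.A (PA.evw ThV.A TQ [10] ThV.A.one) (nth ThV.A.one TF (Nat.mul 2 1))) = true := by decide +kernel

theorem n90 : Nat.beq (PA.mul ThV.A (nth ThV.A.one TF (Nat.mul 2 1)) (nth ThV.A.one TQ (Nat.mul 2 4))) (PA.mul ThV.A (PA.evw ThV.A TQ [4, 8, 12] ThV.A.one) (nth ThV.A.one TF (Nat.mul 2 1))) = true := by decide +kernel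

theorem n91 : Nat.beq (PA.mul ThV.A (nth ThV.A.one TF (Nat.mul 2 1)) (nth ThV.A.one TQ (Nat.mul 2 5))) (PA.mul ThV.A (PA.evw ThV.A TQ [0, 6, 10] ThV.A.one) (nth ThV.A.one TF (Nat.mul 2 1))) = true := by decide +kernel

theorem n92 : Nat.beq (PA.mul ThV.A (nth ThV.A.one TF (Nat.mul 2 1)) (nth ThV.A.one TQ (Nat.mul 2 6))) (PA.mul ThV.A (PA.evw ThV.A TQ [0, 8, 14] ThV.A.one) (nth ThV.A.one TF (Nat.mul 2 1))) = true := by decide +kernel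

theorem n93 : Nat.beq (PA.mul ThV.A (nth ThV.A.one TF (Nat.mul 2 1)) (nth ThV.A.one TQ (Nat.mul 2 7))) (PA.mul ThV.A (PA.evw ThV.A TQ [0, 4, 14] ThV.A.one) (nth ThV.A.one TF (Nat.mul 2 1))) = true := by decide +kernel

theorem n94 : Nat.beq (PA.mul ThV.A (nth ThV.A.one TF (Nat.mul 2 1)) (nth ThV.A.one TQ (Nat.mul 2 8))) (PA.mul ThV.A (PA.evw ThV.A TQ [2, 10] ThV.A.one) (nth ThV.A.one TF (Nat.mul 2 1))) = true := by decide +kernel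

theorem n95 : Nat.beq (PA.mul ThV.A (nth ThV.A.one TF (Nat.mul 2 2)) (nth ThV.A.one TQ (Nat.mul 2 0))) (PA.mul ThV.A (PA.evw ThV.A TQ [0] ThV.A.one) (nth ThV.A.one TF (Nat.mul 2 2))) = true := by decide +kernel

theorem n96 : Nat.beq (PA.mul ThV.A (nth ThV.A.one TF (Nat.mul 2 2)) (nth ThV.A.one TQ (Nat.mul 2 1))) (PA.mul ThV.A (PA.evw ThV.A TQ [6] ThV.A.one) (nth ThV.A.one TF (Nat.mul 2 2))) = true := by decide +kernel

theorem n97 : Nat.beq (PA.mul ThV.A (nth ThV.A.one TF (Nat.mul 2 2)) (nth ThV.A.one TQ (Nat.mul 2 2))) (PA.mul ThV.A (PA.evw ThV.A TQ [0, 4, 8, 14] ThV.A.one) (nth ThV.A.one TF (Nat.mul 2 2))) = true := by decide +kernel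

theorem n98 : Nat.beq (PA.mul ThV.A (nth ThV.A.one TF (Nat.mul 2 2)) (nth ThV.A.one TQ (Nat.mul 2 3))) (PA.mul ThV.A (PA.evw ThV.A TQ [0, 2, 6] ThV.A.one) (nth ThV.A.one TF (Nat.mul 2 2))) = true := by decide +kernel

theorem n99 : Nat.beq (PA.mul ThV.A (nth ThV.A.one TF (Nat.mul 2 2)) (nth ThV.A.one TQ (Nat.mul 2 4))) (PA.mul ThV.A (PA.evw ThV.A TQ [0, 4, 12] ThV.A.one) (nth ThV.A.one TF (Nat.mul 2 2))) = true := by decide +kernel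

theorem n100 : Nat.beq (PA.mul ThV.A (nth ThV.A.one TF (Nat.mul 2 2)) (nth ThV.A.one TQ (Nat.mul 2 5))) (PA.mul ThV.A (PA.evw ThV.A TQ [0, 6, 16] ThV.A.one) (nth ThV.A.one TF (Nat.mul 2 2))) = true := by decide +kernel

theorem n101 : Nat.beq (PA.mul ThV.A (nth ThV.A.one TF (Nat.mul 2 2)) (nth ThV.A.one TQ (Nat.mul 2 6))) (PA.mul ThV.A (PA.evw ThV.A TQ [0, 12, 14] ThV.A.one) (nth ThV.A.one TF (Nat.mul 2 2))) = true := by decide +kernel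

theorem n102 : Nat.beq (PA.mul ThV.A (nth ThV.A.one TF (Nat.mul 2 2)) (nth ThV.A.one TQ (Nat.mul 2 7))) (PA.mul ThV.A (PA.evw ThV.A TQ [0, 12] ThV.A.one) (nth ThV.A.one TF (Nat.mul 2 2))) = true := by decide +kernel

theorem n103 : Nat.beq (PA.mul ThV.A (nth ThV.A.one TF (Nat.mul 2 2)) (nth ThV.A.one TQ (Nat.mul 2 8))) (PA.mul ThV.A (PA.evw ThV.A TQ [0, 2, 10, 16] ThV.A.one) (nth ThV.A.one TF (Nat.mul 2 2))) = true := by decide +kernel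

theorem n104 : Nat.beq (PA.mul ThV.A (nth ThV.A.one TF (Nat.mul 2 3)) (nth ThV.A.one TQ (Nat.mul 2 0))) (PA.mul ThV.A (PA.evw ThV.A TQ [0] ThV.A.one) (nth ThV.A.one TF (Nat.mul 2 3))) = true := by decide +kernel

theorem n105 : Nat.beq (PA.mul ThV.A (nth ThV.A.one TF (Nat.mul 2 3)) (nth ThV.A.one TQ (Nat.mul 2 1))) (PA.mul ThV.A (PA.evw ThV.A TQ [16] ThV.A.one) (nth ThV.A.one TF (Nat.mul 2 3))) = true := by decide +kernel

theorem n106 : Nat.beq (PA.mul ThV.A (nth ThV.A.one TF (Nat.mul 2 3)) (nth ThV.A.one TQ (Nat.mul 2 2))) (PA.mul ThV.A (PA.evw ThV.A TQ [4, 14] ThV.A.one) (nth ThV.A.one TF (Nat.mul 2 3))) = true := by decide +kernel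

theorem n107 : Nat.beq (PA.mul ThV.A (nth ThV.A.one TF (Nat.mul 2 3)) (nth ThV.A.one TQ (Nat.mul 2 3))) (PA.mul ThV.A (PA.evw ThV.A TQ [6, 10] ThV.A.one) (nth ThV.A.one TF (Nat.mul 2 3))) = true := by decide +kernel

theorem n108 : Nat.beq (PA.mul ThV.A (nth ThV.A.one TF (Nat.mul 2 3)) (nth ThV.A.one TQ (Nat.mul 2 4))) (PA.mul ThV.A (PA.evw ThV.A TQ [12] ThV.A.one) (nth ThV.A.one TF (Nat.mul 2 3))) = true := by decide +kernel

theorem n109 : Nat.beq (PA.mul ThV.A (nth ThV.A.one TF (Nat.mul 2 3)) (nth ThV.A.one TQ (Nat.mul 2 5))) (PA.mul ThV.A (PA.evw ThV.A TQ [0, 6] ThV.A.one) (nth ThV.A.one TF (Nat.mul 2 3))) = true := by decide +kernel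

theorem n110 : Nat.beq (PA.mul ThV.A (nth ThV.A.one TF (Nat.mul 2 3)) (nth ThV.A.one TQ (Nat.mul 2 6))) (PA.mul ThV.A (PA.evw ThV.A TQ [8, 12] ThV.A.one) (nth ThV.A.one TF (Nat.mul 2 3))) = true := by decide +kernel

theorem n111 : Nat.beq (PA.mul ThV.A (nth ThV.A.one TF (Nat.mul 2 3)) (nth ThV.A.one TQ (Nat.mul 2 7))) (PA.mul ThV.A (PA.evw ThV.A TQ [0, 4] ThV.A.one) (nth ThV.A.one TF (Nat.mul 2 3))) = true := by decide +kernel

theorem n112 : Nat.beq (PA.mul ThV.A (nth ThV.A.one TF (Nat.mul 2 3)) (nth ThV.A.one TQ (Nat.mul 2 8))) (PA.mul ThV.A (PA.evw ThV.A TQ [0, 2, 16] ThV.A.one) (nth ThV.A.one TF (Nat.mul 2 3))) = true := by decide +kernel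

theorem n113 : Nat.beq (PA.mul ThV.A (nth ThV.A.one TF (Nat.mul 2 4)) (nth ThV.A.one TQ (Nat.mul 2 0))) (PA.mul ThV.A (PA.evw ThV.A TQ [0] ThV.A.one) (nth ThV.A.one TF (Nat.mul 2 4))) = true := by decide +kernel

theorem n114 : Nat.beq (PA.mul ThV.A (nth ThV.A.one TF (Nat.mul 2 4)) (nth ThV.A.one TQ (Nat.mul 2 1))) (PA.mul ThV.A (PA.evw ThV.A TQ [2, 16] ThV.A.one) (nth ThV.A.one TF (Nat.mul 2 4))) = true := by decide +kernel

theorem n115 : Nat.beq (PA.mul ThV.A (nth ThV.A.one TF (Nat.mul 2 4)) (nth ThV.A.one TQ (Nat.mul 2 2))) (PA.mul ThV.A (PA.evw ThV.A TQ [8, 14] ThV.A.one) (nth ThV.A.one TF (Nat.mul 2 4))) = true := by decide +kernel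

theorem n116 : Nat.beq (PA.mul ThV.A (nth ThV.A.one TF (Nat.mul 2 4)) (nth ThV.A.one TQ (Nat.mul 2 3))) (PA.mul ThV.A (PA.evw ThV.A TQ [2, 10] ThV.A.one) (nth ThV.A.one TF (Nat.mul 2 4))) = true := by decide +kernel

theorem n117 : Nat.beq (PA.mul ThV.A (nth ThV.A.one TF (Nat.mul 2 4)) (nth ThV.A.one TQ (Nat.mul 2 4))) (PA.mul ThV.A (PA.evw ThV.A TQ [8, 12] ThV.A.one) (nth ThV.A.one TF (Nat.mul 2 4))) = true := by decide +kernel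

theorem n118 : Nat.beq (PA.mul ThV.A (nth ThV.A.one TF (Nat.mul 2 4)) (nth ThV.A.one TQ (Nat.mul 2 5))) (PA.mul ThV.A (PA.evw ThV.A TQ [6, 10, 16] ThV.A.one) (nth ThV.A.one TF (Nat.mul 2 4))) = true := by decide +kernel

end Cfsg.Agent.Spor.ThK
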