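import Cfsg.Agent.Spor.ThK.D0

set_option autoImplicit false
set_option maxRecDepth 100000000
set_option Elab.async false

namespace Cfsg.Agent.Spor.ThK

theorem n119 : Nat.beq (PA.mul ThV.A (nth ThV.A.one TF (Nat.mul 2 4)) (nth ThV.A.one TQ (Nat.mul 2 6))) (PA.mul ThV.A (PA.evw ThV.A TQ [0, 8] ThV.A.one) (nth ThV.A.one TF (Nat.mul 2 4))) = true := by decide +kernel

theorem n120 : Nat.beq (PA.mul ThV.A (nth ThV.A.one TF (Nat.mul 2 4)) (nth ThV.A.one TQ (Nat.mul 2 7))) (PA.mul ThV.A (PA.evw ThV.A TQ [4, 12, 14] ThV.A.one) (nth ThV.A.one TF (Nat.mul 2 4))) = true := by decide +kernel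

theorem n121 : Nat.beq (PA.mul ThV.A (nth ThV.A.one TF (Nat.mul 2 4)) (nth ThV.A.one TQ (Nat.mul 2 8))) (PA.mul ThV.A (PA.evw ThV.A TQ [0, 2] ThV.A.one) (nth ThV.A.one TF (Nat.mul 2 4))) = true := by decide +kernel

theorem n122 : Nat.beq (PA.mul ThV.A (nth ThV.A.one TF (Nat.mul 2 5)) (nth ThV.A.one TQ (Nat.mul 2 0))) (PA.mul ThV.A (PA.evw ThV.A TQ [0] ThV.A.one) (nth ThV.A.one TF (Nat.mul 2 5))) = true := by decide +kernel

theorem n123 : Nat.beq (PA.mul ThV.A (nth ThV.A.one TF (Nat.mul 2 5)) (nth ThV.A.one TQ (Nat.mul 2 1))) (PA.mul ThV.A (PA.evw ThV.A TQ [6, 12, 16] ThV.A.one) (nth ThV.A.one TF (Nat.mul 2 5))) = true := by decide +kernel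

theorem n124 : Nat.beq (PA.mul ThV.A (nth ThV.A.one TF (Nat.mul 2 5)) (nth ThV.A.one TQ (Nat.mul 2 2))) (PA.mul ThV.A (PA.evw ThV.A TQ [4, 8] ThV.A.one) (nth ThV.A.one TF (Nat.mul 2 5))) = true := by decide +kernel

theorem n125 : Nat.beq (PA.mul ThV.A (nth ThV.A.one TF (Nat.mul 2 5)) (nth ThV.A.one TQ (Nat.mul 2 3))) (PA.mul ThV.A (PA.evw ThV.A TQ [0, 2, 6, 10, 14] ThV.A.one) (nth ThV.A.one TF (Nat.mul 2 5))) = true := by decide +kernel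

theorem n126 : Nat.beq (PA.mul ThV.A (nth ThV.A.one TF (Nat.mul 2 5)) (nth ThV.A.one TQ (Nat.mul 2 4))) (PA.mul ThV.A (PA.evw ThV.A TQ [0, 4] ThV.A.one) (nth ThV.A.one TF (Nat.mul 2 5))) = true := by decide +kernel

theorem n127 : Nat.beq (PA.mul ThV.A (nth ThV.A.one TF (Nat.mul 2 5)) (nth ThV.A.one TQ (Nat.mul 2 5))) (PA.mul ThV.A (PA.evw ThV.A TQ [4, 16] ThV.A.one) (nth ThV.A.one TF (Nat.mul 2 5))) = true := by decide +kernel

theorem n128 : Nat.beq (PA.mul ThV.A (nth ThV.A.one TF (Nat.mul 2 5)) (nth ThV.A.one TQ (Nat.mul 2 6))) (PA.mul ThV.A (PA.evw ThV.A TQ [8, 12, 14] ThV.A.one) (nth ThV.A.one TF (Nat.mul 2 5))) = true := by decide +kernel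

theorem n129 : Nat.beq (PA.mul ThV.A (nth ThV.A.one TF (Nat.mul 2 5)) (nth ThV.A.one TQ (Nat.mul 2 7))) (PA.mul ThV.A (PA.evw ThV.A TQ [0, 4, 12] ThV.A.one) (nth ThV.A.one TF (Nat.mul 2 5))) = true := by decide +kernel

theorem n130 : Nat.beq (PA.mul ThV.A (nth ThV.A.one TF (Nat.mul 2 5)) (nth ThV.A.one TQ (Nat.mul 2 8))) (PA.mul ThV.A (PA.evw ThV.A TQ [0, 8, 10, 16] ThV.A.one) (nth ThV.A.one TF (Nat.mul 2 5))) = true := by decide +kernel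

theorem n131 : Nat.beq (PA.mul ThV.A (nth ThV.A.one TF (Nat.mul 2 6)) (nth ThV.A.one TQ (Nat.mul 2 0))) (PA.mul ThV.A (PA.evw ThV.A TQ [0] ThV.A.one) (nth ThV.A.one TF (Nat.mul 2 6))) = true := by decide +kernel

theorem n132 : Nat.beq (PA.mul ThV.A (nth ThV.A.one TF (Nat.mul 2 6)) (nth ThV.A.one TQ (Nat.mul 2 1))) (PA.mul ThV.A (PA.evw ThV.A TQ [6, 16] ThV.A.one) (nth ThV.A.one TF (Nat.mul 2 6))) = true := by decide +kernel

theorem n133 : Nat.beq (PA.mul ThV.A (nth ThV.A.one TF (Nat.mul 2 6)) (nth ThV.A.one TQ (Nat.mul 2 2))) (PA.mul ThV.A (PA.evw ThV.A TQ [0, 4, 8, 10] ThV.A.one) (nth ThV.A.one TF (Nat.mul 2 6))) = true := by decide +kernel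

theorem n134 : Nat.beq (PA.mul ThV.A (nth ThV.A.one TF (Nat.mul 2 6)) (nth ThV.A.one TQ (Nat.mul 2 3))) (PA.mul ThV.A (PA.evw ThV.A TQ [0, 2, 6, 10] ThV.A.one) (nth ThV.A.one TF (Nat.mul 2 6))) = true := by decide +kernel

theorem n135 : Nat.beq (PA.mul ThV.A (nth ThV.A.one TF (Nat.mul 2 6)) (nth ThV.A.one TQ (Nat.mul 2 4))) (PA.mul ThV.A (PA.evw ThV.A TQ [4, 16] ThV.A.one) (nth ThV.A.one TF (Nat.mul 2 6))) = true := by decide +kernel

theorem n136 : Nat.beq (PA.mul ThV.A (nth ThV.A.one TF (Nat.mul 2 6)) (nth ThV.A.one TQ (Nat.mul 2 5))) (PA.mul ThV.A (PA.evw ThV.A TQ [0, 16] ThV.A.one) (nth ThV.A.one TF (Nat.mul 2 6))) = true := by decide +kernel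

theorem n137 : Nat.beq (PA.mul ThV.A (nth ThV.A.one TF (Nat.mul 2 6)) (nth ThV.A.one TQ (Nat.mul 2 6))) (PA.mul ThV.A (PA.evw ThV.A TQ [0, 2, 8, 12, 14] ThV.A.one) (nth ThV.A.one TF (Nat.mul 2 6))) = true := by decide +kernel

theorem n138 : Nat.beq (PA.mul ThV.A (nth ThV.A.one TF (Nat.mul 2 6)) (nth ThV.A.one TQ (Nat.mul 2 7))) (PA.mul ThV.A (PA.evw ThV.A TQ [0, 4, 6, 12] ThV.A.one) (nth ThV.A.one TF (Nat.mul 2 6))) = true := by decide +kernel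

theorem n139 : Nat.beq (PA.mul ThV.A (nth ThV.A.one TF (Nat.mul 2 6)) (nth ThV.A.one TQ (Nat.mul 2 8))) (PA.mul ThV.A (PA.evw ThV.A TQ [10, 16] ThV.A.one) (nth ThV.A.one TF (Nat.mul 2 6))) = true := by decide +kernel

theorem r140 : Nat.beq (PA.evw ThV.A TF [0, 0, 0] ThV.A.one) (PA.evw ThV.A TQ [] ThV.A.one) = true := by decide +kernel

theorem r141 : Nat.beq (PA.evw ThV.A TF [2, 2, 2] ThV.A.one) (PA.evw ThV.A TQ [] ThV.A.one) = true := by decide +kernel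

theorem r142 : Nat.beq (PA.evw ThV.A TF [4, 4, 4] ThV.A.one) (PA.evw ThV.A TQ [] ThV.A.one) = true := by decide +kernel

theorem r143 : Nat.beq (PA.evw ThV.A TF [6, 6, 6] ThV.A.one) (PA.evw ThV.A TQ [] ThV.A.one) = true := by decide +kernel

theorem r144 : Nat.beq (PA.evw ThV.A TF [8, 8, 8] ThV.A.one) (PA.evw ThV.A TQ [] ThV.A.one) = true := by decide +kernel

theorem r145 : Nat.beq (PA.evw ThV.A TF [10, 10, 10] ThV.A.one) (PA.evw ThV.A TQ [] ThV.A.one) = true := by decide +kernel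

theorem r146 : Nat.beq (PA.evw ThV.A TF [12, 12, 12] ThV.A.one) (PA.evw ThV.A TQ [] ThV.A.one) = true := by decide +kernel

theorem r147 : Nat.beq (PA.evw ThV.A TF [0, 2, 0, 2] ThV.A.one) (PA.evw ThV.A TQ [0, 8, 12] ThV.A.one) = true := by decide +kernel

theorem r148 : Nat.beq (PA.evw ThV.A TF [0, 4, 0, 4] ThV.A.one) (PA.evw ThV.A TQ [0, 2, 6, 12, 14] ThV.A.one) = true := by decide +kernel

theorem r149 : Nat.beq (PA.evw ThV.A TF [0, 6, 0, 6] ThV.A.one) (PA.evw ThV.A TQ [2, 6, 8, 10, 14, 16] ThV.A.one) = true := by decide +kernel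

end Cfsg.Agent.Spor.ThK
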