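import Cfsg.Agent.Spor.ThK.D0

set_option autoImplicit false
set_option maxRecDepth 100000000
set_option Elab.async false

namespace Cfsg.Agent.Spor.ThK

theorem r150 : Nat.beq (PA.evw ThV.A TF [0, 8, 0, 8] ThV.A.one) (PA.evw ThV.A TQ [4, 6, 8, 10, 12] ThV.A.one) = true := by decide +kernel

theorem r151 : Nat.beq (PA.evw ThV.A TF [0, 10, 0, 10] ThV.A.one) (PA.evw ThV.A TQ [0, 4, 12, 16] ThV.A.one) = true := by decide +kernel

theorem r152 : Nat.beq (PA.evw ThV.A TF [0, 12, 0, 12] ThV.A.one) (PA.evw ThV.A TQ [4, 6, 10, 16] ThV.A.one) = true := by decide +kernel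

theorem r153 : Nat.beq (PA.evw ThV.A TF [2, 4, 2, 4] ThV.A.one) (PA.evw ThV.A TQ [2, 4, 12, 10] ThV.A.one) = true := by decide +kernel

theorem r154 : Nat.beq (PA.evw ThV.A TF [2, 6, 2, 6] ThV.A.one) (PA.evw ThV.A TQ [4, 6] ThV.A.one) = true := by decide +kernel

theorem r155 : Nat.beq (PA.evw ThV.A TF [2, 8, 2, 8] ThV.A.one) (PA.evw ThV.A TQ [2, 6, 12, 14] ThV.A.one) = true := by decide +kernel

theorem r156 : Nat.beq (PA.evw ThV.A TF [2, 10, 2, 10] ThV.A.one) (PA.evw ThV.A TQ [2, 4, 6, 12, 14, 16] ThV.A.one) = true := by decide +kernel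

theorem r157 : Nat.beq (PA.evw ThV.A TF [2, 12, 2, 12] ThV.A.one) (PA.evw ThV.A TQ [0, 6, 16] ThV.A.one) = true := by decide +kernel

theorem r158 : Nat.beq (PA.evw ThV.A TF [4, 6, 4, 6] ThV.A.one) (PA.evw ThV.A TQ [2, 6, 8, 12, 16, 14] ThV.A.one) = true := by decide +kernel

theorem r159 : Nat.beq (PA.evw ThV.A TF [4, 8, 4, 8] ThV.A.one) (PA.evw ThV.A TQ [4, 6, 16] ThV.A.one) = true := by decide +kernel

theorem r160 : Nat.beq (PA.evw ThV.A TF [4, 10, 4, 10] ThV.A.one) (PA.evw ThV.A TQ [4, 6, 8, 10, 12] ThV.A.one) = true := by decide +kernel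

theorem r161 : Nat.beq (PA.evw ThV.A TF [4, 12, 4, 12] ThV.A.one) (PA.evw ThV.A TQ [2, 4, 6, 16, 14] ThV.A.one) = true := by decide +kernel

theorem r162 : Nat.beq (PA.evw ThV.A TF [6, 8, 6, 8] ThV.A.one) (PA.evw ThV.A TQ [0, 2, 8, 16] ThV.A.one) = true := by decide +kernel

theorem r163 : Nat.beq (PA.evw ThV.A TF [6, 10, 6, 10] ThV.A.one) (PA.evw ThV.A TQ [4, 8, 12] ThV.A.one) = true := by decide +kernel

theorem r164 : Nat.beq (PA.evw ThV.A TF [6, 12, 6, 12] ThV.A.one) (PA.evw ThV.A TQ [10, 12, 14, 16] ThV.A.one) = true := by decide +kernel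

end Cfsg.Agent.Spor.ThK
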