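import Cfsg.Agent.Spor.ThK.D0

set_option autoImplicit false
set_option maxRecDepth 100000000
set_option Elab.async false

namespace Cfsg.Agent.Spor.ThK

theorem r165 : Nat.beq (PA.evw ThV.A TF [8, 10, 8, 10] ThV.A.one) (PA.evw ThV.A TQ [0, 2, 8, 10] ThV.A.one) = true := by decide +kernel

theorem r166 : Nat.beq (PA.evw ThV.A TF [8, 12, 8, 12] ThV.A.one) (PA.evw ThV.A TQ [4, 6, 12, 16] ThV.A.one) = true := by decide +kernel

theorem r167 : Nat.beq (PA.evw ThV.A TF [10, 12, 10, 12] ThV.A.one) (PA.evw ThV.A TQ [0] ThV.A.one) = true := by decide +kernel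

theorem w168 : PA.isW ThV.A TF [0] m49 = true := by decide +kernel

theorem oF : band (Nat.beq (PA.pw ThV.A m49 3) ThV.A.one) (PA.neq ThV.A m49 ThV.A.one) = true := by decide +kernel

end Cfsg.Agent.Spor.ThK
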