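import Cfsg.Agent.Spor.ThV.Main
import Cfsg.Agent.Spor.An9.Grp
import Cfsg.Agent.Spor.ThK.C0
import Cfsg.Agent.Spor.ThK.C1
import Cfsg.Agent.Spor.ThK.C2
import Cfsg.Agent.Spor.ThK.C3
import Cfsg.Agent.Spor.ThK.C4
import Cfsg.Agent.Spor.ThK.C5

set_option autoImplicit false
set_option maxRecDepth 100000000
set_option Elab.async false

namespace Cfsg.Agent.Spor.ThK

theorem hM3 : ThV.X.M m1 := MRep.M.of_prod (L := [ThV.gd, ThV.gc, ThV.gd]) (AllP.cons (ThV.gens 7).1 (AllP.cons (ThV.gens 5).1 (AllP.cons (ThV.gens 7).1 (AllP.nil)))) pr2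
theorem hM6 : ThV.X.M m4 := MRep.M.of_prod (L := [ThV.ge, ThV.gd, ThV.iu, ThV.gd, ThV.gc, ThV.gd, ThV.gu, ThV.gd, ThV.ge]) (AllP.cons (ThV.gens 9).1 (AllP.cons (ThV.gens 7).1 (AllP.cons (ThV.gens 15).1 (AllP.cons (ThV.gens 7).1 (AllP.cons (ThV.gens 5).1 (AllP.cons (ThV.gens 7).1 (AllP.cons (ThV.gens 14).1 (AllP.cons (ThV.gens 7).1 (AllP.cons (ThV.gens 9).1 (AllP.nil)))))))))) pr5
theorem hM9 : ThV.X.M m7 := MRep.M.of_prod (L := [ThV.ge, ThV.gd, ThV.iu, ThV.ge, ThV.gd, ThV.gc, ThV.gd, ThV.ge, ThV.gu, ThV.gd, ThV.ge]) (AllP.cons (ThV.gens 9).1 (AllP.cons (ThV.gens 7).1 (AllP.cons (ThV.gens 15).1 (AllP.cons (ThV.gens 9).1 (AllP.cons (ThV.gens 7).1 (AllP.cons (ThV.gens 5).1 (AllP.cons (ThV.gens 7).1 (AllP.cons (ThV.gens 9).1 (AllP.cons (ThV.gens 14).1 (AllP.cons (ThV.gens 7).1 (AllP.cons (ThV.gens 9).1 (AllP.nil))))))))))))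 pr8
theorem hM12 : ThV.X.M m10 := MRep.M.of_prod (L := [ThV.gs, ThV.ge, ThV.gd, ThV.iu, ThV.gd, ThV.gc, ThV.gd, ThV.gu, ThV.gd, ThV.ge, ThV.is]) (AllP.cons (ThV.gens 10).1 (AllP.cons (ThV.gens 9).1 (AllP.cons (ThV.gens 7).1 (AllP.cons (ThV.gens 15).1 (AllP.cons (ThV.gens 7).1 (AllP.cons (ThV.gens 5).1 (AllP.cons (ThV.gens 7).1 (AllP.cons (ThV.gens 14).1 (AllP.cons (ThV.gens 7).1 (AllP.cons (ThV.gens 9).1 (AllP.cons (ThV.gens 11).1 (AllP.nil)))))))))))) pr11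
theorem hM15 : ThV.X.M m13 := MRep.M.of_prod (L := [ThV.is, ThV.is, ThV.ge, ThV.gd, ThV.iu, ThV.ge, ThV.gd, ThV.gc, ThV.gd, ThV.ge, ThV.gu]) (AllP.cons (ThV.gens 11).1 (AllP.cons (ThV.gens 11).1 (AllP.cons (ThV.gens 9).1 (AllP.cons (ThV.gens 7).1 (AllP.cons (ThV.gens 15).1 (AllP.cons (ThV.gens 9).1 (AllP.cons (ThV.gens 7).1 (AllP.cons (ThV.gens 5).1 (AllP.cons (ThV.gens 7).1 (AllP.cons (ThV.gens 9).1 (AllP.cons (ThV.gens 14).1 (AllP.nil)))))))))))) pr14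
theorem hM18 : ThV.X.M m16 := MRep.M.of_prod (L := [m13, ThV.gd, ThV.ge, ThV.gs, ThV.gs]) (AllP.cons hM15 (AllP.cons (ThV.gens 7).1 (AllP.cons (ThV.gens 9).1 (AllP.cons (ThV.gens 10).1 (AllP.cons (ThV.gens 10).1 (AllP.nil)))))) pr17
theorem hM21 : ThV.X.M m19 := MRep.M.of_prod (L := [ThV.is, ThV.ge, ThV.gd, ThV.iu, ThV.ge, ThV.gd, ThV.gc, ThV.gd, ThV.ge, ThV.gu, ThV.gd]) (AllP.cons (ThV.gens 11).1 (AllP.cons (ThV.gens 9).1 (AllP.cons (ThV.gens 7).1 (AllP.cons (ThV.gens 15).1 (AllP.cons (ThV.gens 9).1 (AllP.cons (ThV.gens 7).1 (AllP.cons (ThV.gens 5).1 (AllP.cons (ThV.gens 7).1 (AllP.cons (ThV.gens 9).1 (AllP.cons (ThV.gens 14).1 (AllP.cons (ThV.gens 7).1 (AllP.nil)))))))))))) pr20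
theorem hM24 : ThV.X.M m22 := MRep.M.of_prod (L := [m19, ThV.ge, ThV.gs]) (AllP.cons hM21 (AllP.cons (ThV.gens 9).1 (AllP.cons (ThV.gens 10).1 (AllP.nil)))) pr23
theorem hM27 : ThV.X.M m25 := MRep.M.of_prod (L := [ThV.gs, ThV.gs, ThV.ge, ThV.gd, ThV.iu, ThV.gd, ThV.gc, ThV.gd, ThV.gu, ThV.gd, ThV.ge]) (AllP.cons (ThV.gens 10).1 (AllP.cons (ThV.gens 10).1 (AllP.cons (ThV.gens 9).1 (AllP.cons (ThV.gens 7).1 (AllP.cons (ThV.gens 15).1 (AllP.cons (ThV.gens 7).1 (AllP.cons (ThV.gens 5).1 (AllP.cons (ThV.gens 7).1 (AllP.cons (ThV.gens 14).1 (AllP.cons (ThV.gens 7).1 (AllP.cons (ThV.gens 9).1 (AllP.nil)))))))))))) pr26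
theorem hM30 : ThV.X.M m28 := MRep.M.of_prod (L := [m25, ThV.is, ThV.is]) (AllP.cons hM27 (AllP.cons (ThV.gens 11).1 (AllP.cons (ThV.gens 11).1 (AllP.nil)))) pr29
theorem gTQ : ThV.X.Gens TQ (atm 9 (ThV.X.gen TQ)) :=
  MRep.Gens.of_M TQok (MRep.allM (L := [ThV.ga, ThV.gc, m1, m4, m7, m10, m16, m22, m28]) (AllP.cons (ThV.gens 1).1 (AllP.cons (ThV.gens 5).1 (AllP.cons hM3 (AllP.cons hM6 (AllP.cons hM9 (AllP.cons hM12 (AllP.cons hM18 (AllP.cons hM24 (AllP.cons hM30 (AllP.nil)))))))))) rfl)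
theorem hM51 : ThV.X.M m49 := MRep.M.of_prod (L := [ThV.gd, ThV.gu, ThV.gd, ThV.gu, ThV.gt]) (AllP.cons (ThV.gens 7).1 (AllP.cons (ThV.gens 14).1 (AllP.cons (ThV.gens 7).1 (AllP.cons (ThV.gens 14).1 (AllP.cons (ThV.gens 12).1 (AllP.nil)))))) pr50
theorem hM54 : ThV.X.M m52 := MRep.M.of_prod (L := [ThV.is, ThV.gd, ThV.gu, ThV.gd, ThV.gu, ThV.it, ThV.gs]) (AllP.cons (ThV.gens 11).1 (AllP.cons (ThV.gens 7).1 (AllP.cons (ThV.gens 14).1 (AllP.cons (ThV.gens 7).1 (AllP.cons (ThV.gens 14).1 (AllP.cons (ThV.gens 13).1 (AllP.cons (ThV.gens 10).1 (AllP.nil)))))))) pr53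
theorem hM57 : ThV.X.M m55 := MRep.M.of_prod (L := [ThV.gt, ThV.gs, ThV.gu, ThV.gt, ThV.is, ThV.gd, ThV.gu, ThV.gd, ThV.ga]) (AllP.cons (ThV.gens 12).1 (AllP.cons (ThV.gens 10).1 (AllP.cons (ThV.gens 14).1 (AllP.cons (ThV.gens 12).1 (AllP.cons (ThV.gens 11).1 (AllP.cons (ThV.gens 7).1 (AllP.cons (ThV.gens 14).1 (AllP.cons (ThV.gens 7).1 (AllP.cons (ThV.gens 1).1 (AllP.nil)))))))))) pr56
theorem hM60 : ThV.X.M m58 := MRep.M.of_prod (L := [ThV.is, ThV.gu, ThV.is, ThV.gd, ThV.gu, ThV.gs, ThV.gs, ThV.gd, ThV.ga]) (AllP.cons (ThV.gens 11).1 (AllP.cons (ThV.gens 14).1 (AllP.cons (ThV.gens 11).1 (AllP.cons (ThV.gens 7).1 (AllP.cons (ThV.gens 14).1 (AllP.cons (ThV.gens 10).1 (AllP.cons (ThV.gens 10).1 (AllP.cons (ThV.gens 7).1 (AllP.cons (ThV.gens 1).1 (AllP.nil)))))))))) pr59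
theorem hM63 : ThV.X.M m61 := MRep.M.of_prod (L := [ThV.gu, ThV.gs, ThV.gd, ThV.gu, ThV.gd, ThV.gu, ThV.gs, ThV.it, ThV.gs, ThV.ga]) (AllP.cons (ThV.gens 14).1 (AllP.cons (ThV.gens 10).1 (AllP.cons (ThV.gens 7).1 (AllP.cons (ThV.gens 14).1 (AllP.cons (ThV.gens 7).1 (AllP.cons (ThV.gens 14).1 (AllP.cons (ThV.gens 10).1 (AllP.cons (ThV.gens 13).1 (AllP.cons (ThV.gens 10).1 (AllP.cons (ThV.gens 1).1 (AllP.nil))))))))))) pr62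
theorem hM66 : ThV.X.M m64 := MRep.M.of_prod (L := [ThV.gu, ThV.gd, ThV.ge, ThV.is, ThV.gu, ThV.gs, ThV.gs, ThV.gu, ThV.ge, ThV.gd, ThV.ga]) (AllP.cons (ThV.gens 14).1 (AllP.cons (ThV.gens 7).1 (AllP.cons (ThV.gens 9).1 (AllP.cons (ThV.gens 11).1 (AllP.cons (ThV.gens 14).1 (AllP.cons (ThV.gens 10).1 (AllP.cons (ThV.gens 10).1 (AllP.cons (ThV.gens 14).1 (AllP.cons (ThV.gens 9).1 (AllP.cons (ThV.gens 7).1 (AllP.cons (ThV.gens 1).1 (AllP.nil)))))))))))) pr65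
theorem hM69 : ThV.X.M m67 := MRep.M.of_prod (L := [ThV.ge, ThV.is, ThV.gd, ThV.gu, ThV.gt, ThV.is, ThV.gd, ThV.gu, ThV.gt, ThV.ge, ThV.ga]) (AllP.cons (ThV.gens 9).1 (AllP.cons (ThV.gens 11).1 (AllP.cons (ThV.gens 7).1 (AllP.cons (ThV.gens 14).1 (AllP.cons (ThV.gens 12).1 (AllP.cons (ThV.gens 11).1 (AllP.cons (ThV.gens 7).1 (AllP.cons (ThV.gens 14).1 (AllP.cons (ThV.gens 12).1 (AllP.cons (ThV.gens 9).1 (AllP.cons (ThV.gens 1).1 (AllP.nil)))))))))))) pr68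
theorem gTF : ThV.X.Gens TF (atm 7 (ThV.X.gen TF)) :=
  MRep.Gens.of_M TFok (MRep.allM (L := [m49, m52, m55, m58, m61, m64, m67]) (AllP.cons hM51 (AllP.cons hM54 (AllP.cons hM57 (AllP.cons hM60 (AllP.cons hM63 (AllP.cons hM66 (AllP.cons hM69 (AllP.nil)))))))) rfl)
theorem ordF : orderOf (ev (atm 7 (ThV.X.gen TF)) [0]) = 3 :=
  (gTF.isW w168).2 ▸ (gTF.isW w168).1.ord (by norm_num) oF

/-- the extraspecial group and the centraliser -/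
noncomputable abbrev Q : Subgroup ThV.H := gsub 9 (ThV.X.gen TQ)
noncomputable abbrev K : Subgroup ThV.H := Q ⊔ gsub 7 (ThV.X.gen TF)

theorem xs : PC (ThV.X.gen TQ) 9 (2 ^ 9) ∧ IsExtraspecial 2 Q :=
  MRep.Gens.xs (k := 4) gTQ (by decide) q0
    (show AllP (fun i => PA.isW ThV.A TQ [2 * i, 2 * i] ThV.A.one = true) [0, 1, 2, 3, 4, 5, 6, 7, 8] from AllP.cons q31 (AllP.cons q32 (AllP.cons q33 (AllP.cons q34 (AllP.cons q35 (AllP.cons q36 (AllP.cons q37 (AllP.cons q38 (AllP.cons q39 (AllP.nil))))))))))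
    (show AllP (fun i => allN (fun j => Nat.beq (PA.evw ThV.A TQ [2 * i, 2 * j] ThV.A.one)
      (PA.evw ThV.A TQ (lapp (Bool.rec [] [0] (xpr i j)) [2 * j, 2 * i]) ThV.A.one)) i = true) [0, 1, 2, 3, 4, 5, 6, 7, 8] from AllP.cons q40 (AllP.cons q41 (AllP.cons q42 (AllP.cons q43 (AllP.cons q44 (AllP.cons q45 (AllP.cons q46 (AllP.cons q47 (AllP.cons q48 (AllP.nil))))))))))

theorem nrm : ∀ i < 7, ∀ x ∈ Q, ThV.X.gen TF i * x * (ThV.X.gen TF i)⁻¹ ∈ Q :=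
  gTF.conj_mem gTQ le_rfl (show AllP (fun i => AllP (fun j => ∃ w, Nat.beq
      (PA.mul ThV.A (nth ThV.A.one TF (Nat.mul 2 i)) (nth ThV.A.one TQ (Nat.mul 2 j)))
      (PA.mul ThV.A (PA.evw ThV.A TQ w ThV.A.one) (nth ThV.A.one TF (Nat.mul 2 i))) = true) [0, 1, 2, 3, 4, 5, 6, 7, 8]) [0, 1, 2, 3, 4, 5, 6] from
    AllP.cons (AllP.cons ⟨_, n77⟩ (AllP.cons ⟨_, n78⟩ (AllP.cons ⟨_, n79⟩ (AllP.cons ⟨_, n80⟩ (AllP.cons ⟨_, n81⟩ (AllP.cons ⟨_, n82⟩ (AllP.cons ⟨_, n83⟩ (AllP.cons ⟨_, n84⟩ (AllP.cons ⟨_, n85⟩ (AllP.nil)))))))))) (AllP.cons (AllP.cons ⟨_, n86⟩ (AllP.cons ⟨_, n87⟩ (AllP.cons ⟨_, n88⟩ (AllP.cons ⟨_, n89⟩ (AllP.cons ⟨_, n90⟩ (AllP.cons ⟨_, n91⟩ (AllP.cons ⟨_, n92⟩ (AllP.cons ⟨_, n93⟩ (AllP.cons ⟨_, n94⟩ (AllP.nil)))))))))) (AllP.cons (AllP.cons ⟨_, n95⟩ (AllP.cons ⟨_, n96⟩ (AllP.cons ⟨_, n97⟩ (AllP.cons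 ⟨_, n98⟩ (AllP.cons ⟨_, n99⟩ (AllP.cons ⟨_, n100⟩ (AllP.cons ⟨_, n101⟩ (AllP.cons ⟨_, n102⟩ (AllP.cons ⟨_, n103⟩ (AllP.nil)))))))))) (AllP.cons (AllP.cons ⟨_, n104⟩ (AllP.cons ⟨_, n105⟩ (AllP.cons ⟨_, n106⟩ (AllP.cons ⟨_, n107⟩ (AllP.cons ⟨_, n108⟩ (AllP.cons ⟨_, n109⟩ (AllP.cons ⟨_, n110⟩ (AllP.cons ⟨_, n111⟩ (AllP.cons ⟨_, n112⟩ (AllP.nil)))))))))) (AllP.cons (AllP.cons ⟨_, n113⟩ (AllP.cons ⟨_, n114⟩ (AllP.cons ⟨_, n115⟩ (AllP.cons ⟨_, n116⟩ (AllP.cons ⟨_, n117⟩ (AllP.cons ⟨_, n118⟩ (AllP.cons ⟨_, n119⟩ (AllP.cons ⟨_, n120⟩ (AllP.cons ⟨_, n121⟩ (AllP.nil)))))))))) (AllP.cons (AllP.cons ⟨_, n122⟩ (AllP.cons ⟨_, n123⟩ (AllP.cons ⟨_, n124⟩ (AllP.cons ⟨_, n125⟩ (AllP.cons ⟨_, n126⟩ (AllP.cons ⟨_, n127⟩ (AllP.cons ⟨_, n128⟩ (AllP.cons ⟨_, n129⟩ (AllP.cons ⟨_, n130⟩ (AllP.nil)))))))))) (AllP.cons (AllP.cons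 ⟨_, n131⟩ (AllP.cons ⟨_, n132⟩ (AllP.cons ⟨_, n133⟩ (AllP.cons ⟨_, n134⟩ (AllP.cons ⟨_, n135⟩ (AllP.cons ⟨_, n136⟩ (AllP.cons ⟨_, n137⟩ (AllP.cons ⟨_, n138⟩ (AllP.cons ⟨_, n139⟩ (AllP.nil)))))))))) (AllP.nil))))))))

theorem rel : ∀ l ∈ An9.RL, ev (atm 7 (ThV.X.gen TF)) l ∈ Q :=
  gTF.mem_words gTQ (show AllP (fun l => ∃ w, Nat.beq (PA.evw ThV.A TF l ThV.A.one)
    (PA.evw ThV.A TQ w ThV.A.one) = true) [[0, 0, 0], [2, 2, 2], [4, 4, 4], [6, 6, 6], [8, 8, 8], [10, 10, 10], [12, 12, 12], [0, 2, 0, 2], [0, 4, 0, 4], [0, 6, 0, 6], [0, 8, 0, 8], [0, 10, 0, 10], [0, 12, 0, 12], [2, 4, 2, 4], [2, 6, 2, 6], [2, 8, 2, 8], [2, 10, 2, 10], [2, 12, 2, 12], [4, 6, 4, 6], [4, 8, 4, 8], [4, 10, 4, 10], [4, 12, 4, 12], [6, 8, 6, 8], [6, 10, 6, 10], [6, 12, 6, 12], [8, 10, 8, 10], [8, 12, 8, 12], [10, 12, 10, 12]] from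 AllP.cons ⟨_, r140⟩ (AllP.cons ⟨_, r141⟩ (AllP.cons ⟨_, r142⟩ (AllP.cons ⟨_, r143⟩ (AllP.cons ⟨_, r144⟩ (AllP.cons ⟨_, r145⟩ (AllP.cons ⟨_, r146⟩ (AllP.cons ⟨_, r147⟩ (AllP.cons ⟨_, r148⟩ (AllP.cons ⟨_, r149⟩ (AllP.cons ⟨_, r150⟩ (AllP.cons ⟨_, r151⟩ (AllP.cons ⟨_, r152⟩ (AllP.cons ⟨_, r153⟩ (AllP.cons ⟨_, r154⟩ (AllP.cons ⟨_, r155⟩ (AllP.cons ⟨_, r156⟩ (AllP.cons ⟨_, r157⟩ (AllP.cons ⟨_, r158⟩ (AllP.cons ⟨_, r159⟩ (AllP.cons ⟨_, r160⟩ (AllP.cons ⟨_, r161⟩ (AllP.cons ⟨_, r162⟩ (AllP.cons ⟨_, r163⟩ (AllP.cons ⟨_, r164⟩ (AllP.cons ⟨_, r165⟩ (AllP.cons ⟨_, r166⟩ (AllP.cons ⟨_, r167⟩ (AllP.nil)))))))))))))))))))))))))))))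

theorem next : NExt K Q An9.P :=
  haveI := xs.1.finite
  next_of An9.bound (by norm_num) An9.cert.pres An9.lbP An9.simpleP (N := 7) (fun _ hj => mem_gsub _ hj)
    nrm rel (WD := [[0], [2], [4], [6], [8], [10], [12]]) (H := [([], 0, true), ([], 1, true), ([], 2, true), ([], 3, true), ([], 4, true), ([], 5, true), ([], 6, true), ([], 7, true), ([], 8, true), ([], 9, true), ([], 10, true), ([], 11, true), ([], 12, true), ([], 13, true), ([], 14, true), ([], 15, true), ([], 16, true), ([], 17, true), ([], 18, true), ([], 19, true), ([], 20, true), ([], 21, true), ([], 22, true), ([], 23, true), ([], 24, true), ([], 25, true), ([], 26, true), ([], 27, true)]) (by decide +kernel) (not_mem_of_ord ordF xs.1.1 (by norm_num))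

theorem cardK : Nat.card K = 92897280 := by
  rw [next.card, An9.cardP, xs.1.1]; rfl

end Cfsg.Agent.Spor.ThK
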